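import Groth.Agent.Lib.UnrSplit5.Basic
import Mathlib.FieldTheory.IsAlgClosed.AlgebraicClosure
import Mathlib.RingTheory.Unramified.LocalRing
import Mathlib.RingTheory.Unramified.Finite
import Mathlib.RingTheory.TensorProduct.Pi
import Mathlib.RingTheory.TensorProduct.Quotient

/-!
# Unramified algebras split completely étale locally
-/

universe u

set_option linter.style.haveILetI false

open TensorProduct

attribute [local instance] Localization.AtPrime.algebraOfLiesOver

namespace Groth.Agent.UnrSplit5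

/-- Splitting off the first entry of a product over `Fin (n + 1)`. -/
def piFinConsEquiv {A : Type u} [CommRing A] {n : ℕ} (K : Ideal A) (J : Fin n → Ideal A) :
    ((A ⧸ K) × (∀ i, A ⧸ J i)) ≃ₐ[A] (∀ i : Fin (n + 1), A ⧸ (Fin.cons K J : _ → Ideal A) i) where
  toFun f := fun i => Fin.cases (motive := fun i => A ⧸ (Fin.cons K J : _ → Ideal A) i) f.1 f.2 i
  invFun f := (f 0, fun i => f i.succ)
  left_inv _ := rfl
  right_inv f := by funext i; cases i using Fin.cases <;> rfl
  map_mul' f g := by funext i; cases i using Fin.cases <;> rfl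
  map_add' f g := by funext i; cases i using Fin.cases <;> rfl
  commutes' a := by funext i; cases i using Fin.cases <;> rfl

theorem finite_algHom_algClosed (R : Type u) [CommRing R] (S : Type u) [CommRing S] [Algebra R S]
    [Algebra.Unramified R S] (Ω : Type u) [Field Ω] [Algebra R Ω] : Finite (S →ₐ[R] Ω) := by
  haveI : Algebra.FormallyUnramified Ω (Ω ⊗[R] S) := inferInstance
  haveI : Algebra.FiniteType Ω (Ω ⊗[R] S) := inferInstance
  haveI : Module.Finite Ω (Ω ⊗[R] S) := Algebra.FormallyUnramified.finite_of_free _ _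
  haveI : Finite ((Ω ⊗[R] S) →ₐ[Ω] Ω) := Finite.of_fintype _
  refine Finite.of_injective
    (fun γ : S →ₐ[R] Ω =>
      (Algebra.TensorProduct.lift (AlgHom.id Ω Ω) γ (fun _ _ => Commute.all _ _) :
        (Ω ⊗[R] S) →ₐ[Ω] Ω)) ?_
  intro γ γ' h
  ext s
  have := congrArg (fun m : (Ω ⊗[R] S) →ₐ[Ω] Ω => m (1 ⊗ₜ s)) h
  simpa using this

theorem isEmpty_prime_over (R : Type u) [CommRing R] (S : Type u) [CommRing S] [Algebra R S]
    [Algebra.Unramified R S] (Ω : Type u) [Field Ω] [IsAlgClosed Ω] [Algebra R Ω]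
    (h : IsEmpty (S →ₐ[R] Ω)) (q : Ideal S) [q.IsPrime] :
    q.comap (algebraMap R S) ≠ RingHom.ker (algebraMap R Ω) := by
  intro hq
  let p := RingHom.ker (algebraMap R Ω)
  haveI : p.IsPrime := RingHom.ker_isPrime _
  haveI : q.LiesOver p := ⟨hq.symm⟩
  let jp : p.ResidueField →ₐ[R] Ω :=
    Ideal.ResidueField.liftₐ p (Algebra.ofId R Ω) le_rfl (fun x hx => by
      have : algebraMap R Ω x ≠ 0 := fun h0 => hx h0
      exact IsUnit.mk0 _ this)
  letI := jp.toRingHom.toAlgebra
  haveI : IsScalarTower R p.ResidueField Ω := IsScalarTower.of_algebraMap_eq' jp.comp_algebraMap.symm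
  haveI : Algebra.IsUnramifiedAt R q := inferInstance
  haveI : Algebra.IsAlgebraic p.ResidueField q.ResidueField := Algebra.IsAlgebraic.of_finite _ _
  let jq : q.ResidueField →ₐ[p.ResidueField] Ω := IsAlgClosed.lift
  exact h.false ((jq.restrictScalars R).comp (IsScalarTower.toAlgHom R S q.ResidueField))

/-- Induction on the number of geometric points of the fibre. -/
theorem exists_split_all (Ω : Type u) [Field Ω] [IsAlgClosed Ω] (N : ℕ) :
    ∀ (R : Type u) [CommRing R] (S : Type u) [CommRing S] [Algebra R S] [Algebra.Unramified R S]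
      [Algebra R Ω], Nat.card (S →ₐ[R] Ω) ≤ N →
    ∃ (R' : Type u) (_ : CommRing R') (_ : Algebra R R') (_ : Algebra.Etale R R') (p' : Ideal R')
      (_ : p'.IsPrime) (_ : p'.LiesOver (RingHom.ker (algebraMap R Ω))) (n : ℕ)
      (J : Fin n → Ideal R') (B : Type u) (_ : CommRing B) (_ : Algebra R' B),
      Nonempty ((R' ⊗[R] S) ≃ₐ[R'] ((∀ i, R' ⧸ J i) × B)) ∧ (∀ i, J i ≤ p') ∧
        ∀ (q : Ideal B) [q.IsPrime], q.comap (algebraMap R' B) ≠ p' := by
  induction N with
  | zero =>
    intro R _ S _ _ _ _ hN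
    haveI := finite_algHom_algClosed R S Ω
    have he : IsEmpty (S →ₐ[R] Ω) := Finite.card_eq_zero_iff.mp (Nat.le_zero.mp hN)
    let e : (R ⊗[R] S) ≃ₐ[R] ((∀ i : Fin 0, R ⧸ (Fin.elim0 i : Ideal R)) × S) :=
      (Algebra.TensorProduct.lid R S).trans
        { toFun := fun s => (fun i => i.elim0, s)
          invFun := fun x => x.2
          left_inv := fun _ => rfl
          right_inv := fun x => Prod.ext (funext fun i => i.elim0) rfl
          map_mul' := fun _ _ => Prod.ext (funext fun i => i.elim0) rfl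
          map_add' := fun _ _ => Prod.ext (funext fun i => i.elim0) rfl
          commutes' := fun _ => Prod.ext (funext fun i => i.elim0) rfl }
    exact ⟨R, inferInstance, inferInstance, inferInstance, RingHom.ker (algebraMap R Ω),
      RingHom.ker_isPrime _, ⟨rfl⟩, 0, fun i => i.elim0, S, inferInstance, inferInstance, ⟨e⟩,
      fun i => i.elim0, fun q _ => isEmpty_prime_over R S Ω he q⟩
  | succ N ih =>
    intro R _ S _ _ _ _ hN
    haveI := finite_algHom_algClosed R S Ω
    by_cases he : IsEmpty (S →ₐ[R] Ω)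
    · exact ih R S (by rw [Nat.card_of_isEmpty]; exact Nat.zero_le _)
    obtain ⟨γ⟩ := not_isEmpty_iff.mp he
    let q := RingHom.ker γ
    haveI : q.IsPrime := RingHom.ker_isPrime _
    obtain ⟨r, hrq, P, φ, hφ⟩ :=
      Algebra.IsUnramifiedAt.exists_hasStandardEtaleSurjectionOn (R := R) q
    obtain ⟨B, _, _, e, he'⟩ := split_of_surjective r φ hφ
    have hr : IsUnit (γ r) := IsUnit.mk0 _ hrq
    let γr : Localization.Away r →+* Ω := IsLocalization.Away.lift r (g := γ.toRingHom) hr
    let w : P.Ring →+* Ω := γr.comp φ.toRingHom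
    letI := w.toAlgebra
    haveI : IsScalarTower R P.Ring Ω := IsScalarTower.of_algebraMap_eq fun x => by
      show algebraMap R Ω x = γr (φ (algebraMap R P.Ring x))
      rw [φ.commutes, IsScalarTower.algebraMap_apply R S (Localization.Away r),
        IsLocalization.Away.lift_eq r hr]
      exact (γ.commutes x).symm
    let p' := RingHom.ker (algebraMap P.Ring Ω)
    have hJ : RingHom.ker φ ≤ p' := fun a ha => by
      show γr (φ a) = 0
      rw [RingHom.mem_ker.mp ha, map_zero]
    haveI : Algebra.Unramified P.Ring B :=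
      { formallyUnramified := Algebra.FormallyUnramified.of_surjective
          ((AlgHom.snd P.Ring _ _).comp e.toAlgHom) (Prod.snd_surjective.comp e.surjective)
        finiteType := Algebra.FiniteType.of_surjective
          ((AlgHom.snd P.Ring _ _).comp e.toAlgHom) (Prod.snd_surjective.comp e.surjective) }
    haveI := finite_algHom_algClosed P.Ring B Ω
    let res : ((P.Ring ⊗[R] S) →ₐ[P.Ring] Ω) → (S →ₐ[R] Ω) := fun δ =>
      (δ.restrictScalars R).comp Algebra.TensorProduct.includeRight
    have hres : Function.Injective res := fun δ δ' h => Algebra.TensorProduct.ext'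
      fun a s => by
        have h1 : a ⊗ₜ[R] s = algebraMap P.Ring (P.Ring ⊗[R] S) a * (1 ⊗ₜ s) := by simp
        rw [h1, map_mul, map_mul, AlgHom.commutes, AlgHom.commutes]
        exact congrArg (_ * ·) (AlgHom.congr_fun h s)
    let G : (P.Ring ⊗[R] S) →ₐ[P.Ring] Ω :=
      (Ideal.Quotient.liftₐ (RingHom.ker φ) (Algebra.ofId P.Ring Ω) (fun a ha => hJ ha)).comp
        ((AlgHom.fst P.Ring _ _).comp e.toAlgHom)
    have hG : res G = γ := by
      ext s
      obtain ⟨a, ha⟩ := Ideal.Quotient.mk_surjective (e (1 ⊗ₜ s)).1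
      have h2 := he' s
      rw [← ha] at h2
      replace h2 : φ a = algebraMap S (Localization.Away r) s := h2
      show Ideal.Quotient.liftₐ (RingHom.ker φ) (Algebra.ofId P.Ring Ω) (fun a ha => hJ ha)
        (e (1 ⊗ₜ s)).1 = γ s
      rw [← ha]
      show γr (φ a) = γ s
      rw [h2, IsLocalization.Away.lift_eq r hr]
      rfl
    let Φ : Option (B →ₐ[P.Ring] Ω) → (S →ₐ[R] Ω) := fun o => o.elim (res G) fun δ =>
      res (δ.comp ((AlgHom.snd P.Ring _ _).comp e.toAlgHom))
    have hne : ∀ δ : B →ₐ[P.Ring] Ω, δ.comp ((AlgHom.snd P.Ring _ _).comp e.toAlgHom) ≠ G := by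
      intro δ h
      have := AlgHom.congr_fun h (e.symm (0, 1))
      simp [G] at this
    have hΦ : Function.Injective Φ := by
      rintro (_ | δ) (_ | δ') h
      · rfl
      · exact absurd (hres h).symm (hne δ')
      · exact absurd (hres h) (hne δ)
      · congr 1
        ext b
        have := AlgHom.congr_fun (hres h) (e.symm (0, b))
        simpa using this
    have hle : Nat.card (B →ₐ[P.Ring] Ω) ≤ N := by
      have := Nat.card_le_card_of_injective Φ hΦ
      rw [Finite.card_option] at this
      lia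
    obtain ⟨R'', _, _, _, p'', _, hp'', n, J, B'', _, _, ⟨e''⟩, hJle, hB⟩ := ih P.Ring B hle
    letI := ((algebraMap P.Ring R'').comp (algebraMap R P.Ring)).toAlgebra
    haveI : IsScalarTower R P.Ring R'' := IsScalarTower.of_algebraMap_eq fun _ => rfl
    haveI : Algebra.Etale R R'' := Algebra.Etale.comp R P.Ring R''
    let K := (RingHom.ker φ).map (algebraMap P.Ring R'')
    let e₁ : (R'' ⊗[R] S) ≃ₐ[R''] (R'' ⧸ K) × ((∀ i, R'' ⧸ J i) × B'') :=
      (Algebra.TensorProduct.cancelBaseChange R P.Ring R'' R'' S).symm.trans <|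
      (Algebra.TensorProduct.congr (AlgEquiv.refl (R := R'')) e).trans <|
      (Algebra.TensorProduct.prodRight P.Ring R'' R'' _ _).trans <|
      AlgEquiv.prodCongr
        (Algebra.TensorProduct.quotIdealMapEquivTensorQuot R'' (RingHom.ker φ)).symm e''
    let e₂ : ((R'' ⧸ K) × ((∀ i, R'' ⧸ J i) × B'')) ≃ₐ[R'']
        ((∀ i : Fin (n + 1), R'' ⧸ (Fin.cons K J : _ → Ideal R'') i) × B'') :=
      { toFun := fun x => (piFinConsEquiv K J (x.1, x.2.1), x.2.2)
        invFun := fun y => (((piFinConsEquiv K J).symm y.1).1,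
          ((piFinConsEquiv K J).symm y.1).2, y.2)
        left_inv := fun _ => rfl
        right_inv := fun y => Prod.ext ((piFinConsEquiv K J).apply_symm_apply y.1) rfl
        map_mul' := fun x y => Prod.ext (map_mul (piFinConsEquiv K J) (x.1, x.2.1) (y.1, y.2.1)) rfl
        map_add' := fun x y => Prod.ext (map_add (piFinConsEquiv K J) (x.1, x.2.1) (y.1, y.2.1)) rfl
        commutes' := fun a => Prod.ext ((piFinConsEquiv K J).commutes a) rfl }
    have hover : p''.LiesOver (RingHom.ker (algebraMap R Ω)) := by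
      refine ⟨?_⟩
      rw [Ideal.under_def, IsScalarTower.algebraMap_eq R P.Ring R'', ← Ideal.comap_comap,
        ← Ideal.under_def P.Ring p'', ← hp''.over, RingHom.comap_ker,
        ← IsScalarTower.algebraMap_eq]
    have hK : K ≤ p'' := by
      rw [Ideal.map_le_iff_le_comap, ← Ideal.under_def, ← hp''.over]
      exact hJ
    refine ⟨R'', inferInstance, inferInstance, inferInstance, p'', inferInstance, hover, n + 1,
      Fin.cons K J, B'', inferInstance, inferInstance, ⟨e₁.trans e₂⟩, fun i => ?_, hB⟩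
    cases i using Fin.cases
    · exact hK
    · exact hJle _

end Groth.Agent.UnrSplit5
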