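import Mathlib.RingTheory.Unramified.LocalStructure
import Mathlib.RingTheory.Etale.Basic
import Mathlib.RingTheory.Ideal.IdempotentFG
import Mathlib.RingTheory.Idempotents

/-!
# Unramified algebras split étale locally
-/

universe u

set_option linter.style.haveILetI false
set_option linter.deprecated false

open TensorProduct

namespace Groth.Agent.UnrSplit5

/-- A surjection from an étale algebra onto a principal localisation splits off a factor of the
base change. -/
theorem split_of_surjective {R : Type u} [CommRing R] {S R' Sr : Type u} [CommRing S] [CommRing R']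
    [CommRing Sr] [Algebra R S] [Algebra R R'] [Algebra.Etale R R'] [Algebra R Sr] [Algebra S Sr]
    [IsScalarTower R S Sr] (r : S) [IsLocalization.Away r Sr] (φ : R' →ₐ[R] Sr)
    (hφ : Function.Surjective φ) :
    ∃ (B : Type u) (_ : CommRing B) (_ : Algebra R' B)
      (e : (R' ⊗[R] S) ≃ₐ[R'] (R' ⧸ RingHom.ker φ) × B),
      ∀ s, Ideal.Quotient.liftₐ (RingHom.ker φ) φ (fun _ h => h) (e (1 ⊗ₜ s)).1 =
        algebraMap S Sr s := by
  haveI : Algebra.Etale S Sr := Algebra.Etale.of_isLocalizationAway r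
  let π : S ⊗[R] R' →ₐ[S] Sr :=
    Algebra.TensorProduct.lift (Algebra.ofId S Sr) φ (fun _ _ => Commute.all _ _)
  have hπ : Function.Surjective π := fun y => by
    obtain ⟨a, rfl⟩ := hφ y
    exact ⟨1 ⊗ₜ a, by simp [π]⟩
  have hfg : (RingHom.ker π).FG := Algebra.FinitePresentation.ker_fG_of_surjective π hπ
  have hid : IsIdempotentElem (RingHom.ker π) := by
    letI := π.toRingHom.toAlgebra
    haveI : IsScalarTower S (S ⊗[R] R') Sr := IsScalarTower.of_algebraMap_eq' π.comp_algebraMap.symm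
    haveI : Algebra.FormallyEtale (S ⊗[R] R') Sr :=
      Algebra.FormallyEtale.of_restrictScalars (R := S)
    exact (Algebra.FormallyEtale.iff_of_surjective (R := S ⊗[R] R') (S := Sr) hπ).mp inferInstance
  obtain ⟨c, hc, hker⟩ := (Ideal.isIdempotentElem_iff_of_fg _ hfg).mp hid
  let J := RingHom.ker φ
  let ψ : (R' ⧸ J) →ₐ[R] Sr := Ideal.Quotient.liftₐ J φ (fun _ h => h)
  have hψ : Function.Injective ψ :=
    RingHom.lift_injective_of_ker_le_ideal J (fun _ h => h) le_rfl
  have hψ' : Function.Surjective ψ := fun y => by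
    obtain ⟨a, rfl⟩ := hφ y
    exact ⟨Ideal.Quotient.mk J a, rfl⟩
  let eψ : (R' ⧸ J) ≃ₐ[R] Sr := AlgEquiv.ofBijective ψ ⟨hψ, hψ'⟩
  let g : S →ₐ[R] R' ⧸ J := eψ.symm.toAlgHom.comp (IsScalarTower.toAlgHom R S Sr)
  let f : R' ⊗[R] S →ₐ[R'] R' ⧸ J :=
    Algebra.TensorProduct.lift (Algebra.ofId R' (R' ⧸ J)) g (fun _ _ => Commute.all _ _)
  have hf : ∀ z, ψ (f z) = π (Algebra.TensorProduct.comm R R' S z) := by
    intro z
    induction z using TensorProduct.induction_on with
    | zero => simp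
    | add a b ha hb => simp only [map_add, ha, hb]
    | tmul a s =>
      simp only [f, π, Algebra.TensorProduct.lift_tmul, Algebra.TensorProduct.comm_tmul, map_mul,
        Algebra.ofId_apply, Ideal.Quotient.algebraMap_eq]
      rw [mul_comm]
      congr 1
      exact eψ.apply_symm_apply _
  let e₁ := (Algebra.TensorProduct.comm R R' S).symm c
  have he₁ : IsIdempotentElem e₁ := hc.map _
  have hkf : RingHom.ker f = Ideal.span {e₁} := by
    ext z
    rw [RingHom.mem_ker, ← hψ.eq_iff, hf, map_zero, ← RingHom.mem_ker, hker,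
      Ideal.submodule_span_eq, Ideal.mem_span_singleton, Ideal.mem_span_singleton]
    constructor
    · rintro ⟨d, hd⟩
      refine ⟨(Algebra.TensorProduct.comm R R' S).symm d, ?_⟩
      apply (Algebra.TensorProduct.comm R R' S).injective
      rw [map_mul, AlgEquiv.apply_symm_apply, hd]
      simp [e₁]
    · rintro ⟨d, rfl⟩
      exact ⟨Algebra.TensorProduct.comm R R' S d, by simp [e₁]⟩
  have hfs : Function.Surjective f := fun y => by
    obtain ⟨a, rfl⟩ := Ideal.Quotient.mk_surjective y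
    exact ⟨a ⊗ₜ 1, by simp [f]⟩
  let e₀ := AlgEquiv.prodQuotientOfIsIdempotentElem (R := R') he₁ he₁.one_sub (by simp)
    (by simp [mul_sub, he₁.eq])
  let q : ((R' ⊗[R] S) ⧸ Ideal.span {e₁}) ≃ₐ[R'] R' ⧸ J :=
    (Ideal.quotientEquivAlgOfEq R' hkf.symm).trans (Ideal.quotientKerAlgEquivOfSurjective hfs)
  refine ⟨(R' ⊗[R] S) ⧸ Ideal.span {1 - e₁}, inferInstance, inferInstance,
    e₀.trans (q.prodCongr AlgEquiv.refl), fun s => ?_⟩
  have h1 : (e₀.trans (q.prodCongr AlgEquiv.refl) (1 ⊗ₜ s)).1 = f (1 ⊗ₜ s) := rfl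
  rw [h1]
  show ψ (f (1 ⊗ₜ s)) = _
  rw [hf]
  simp [π]

/-- Étale-local splitting at an unramified prime. -/
theorem exists_split_at (R : Type u) [CommRing R] (S : Type u) [CommRing S] [Algebra R S]
    [Algebra.FiniteType R S] (q : Ideal S) [q.IsPrime] [Algebra.IsUnramifiedAt R q] :
    ∃ (R' : Type u) (_ : CommRing R') (_ : Algebra R R') (_ : Algebra.Etale R R') (p' : Ideal R')
      (_ : p'.IsPrime) (_ : p'.LiesOver (q.under R)) (J : Ideal R') (_ : J ≤ p')
      (B : Type u) (_ : CommRing B) (_ : Algebra R' B) (e : (R' ⊗[R] S) ≃ₐ[R'] (R' ⧸ J) × B),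
      ∀ s a, Ideal.Quotient.mk J a = (e (1 ⊗ₜ s)).1 → (a ∈ p' ↔ s ∈ q) := by
  obtain ⟨r, hrq, P, φ, hφ⟩ :=
    Algebra.IsUnramifiedAt.exists_hasStandardEtaleSurjectionOn (R := R) q
  have hd : Disjoint (Submonoid.powers r : Set S) q :=
    (Ideal.disjoint_powers_iff_notMem_of_isPrime r).mpr hrq
  let Q := q.map (algebraMap S (Localization.Away r))
  haveI : Q.IsPrime := IsLocalization.isPrime_of_isPrime_disjoint _ _ _ ‹_› hd
  have hQ : Q.comap (algebraMap S (Localization.Away r)) = q :=
    IsLocalization.comap_map_of_isPrime_disjoint _ _ ‹_› hd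
  obtain ⟨B, _, _, e, he⟩ := split_of_surjective r φ hφ
  refine ⟨P.Ring, inferInstance, inferInstance, inferInstance, Q.comap φ, inferInstance, ⟨?_⟩,
    RingHom.ker φ, fun x hx => by simp [Ideal.mem_comap, RingHom.mem_ker.mp hx],
    B, inferInstance, inferInstance, e, fun s a ha => ?_⟩
  · ext x
    simp only [Ideal.mem_comap, AlgHom.commutes, Ideal.under_def, ← hQ]
    rw [← IsScalarTower.algebraMap_apply]
  · have := he s
    rw [← ha] at this
    replace this : φ a = algebraMap S (Localization.Away r) s := this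
    conv_rhs => rw [← hQ, Ideal.mem_comap, ← this]
    exact Ideal.mem_comap

end Groth.Agent.UnrSplit5
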